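import Cfsg.Agent.H311.DQ.RowsA
import Cfsg.Agent.H363.DQ.BigG
import Cfsg.Agent.H396.ParG23
import Cfsg.Agent.S2121
import Cfsg.Agent.S1059

/-!
# S4247: the row `G₂(q)`, characteristic not in `π` (helper311)

`false_G2`.
-/

set_option autoImplicit false
set_option linter.unusedSectionVars false

namespace Cfsg.Agent.H311.DQ

open Subgroup Cfsg Cfsg.Lie Cfsg.Agent.OrdDiv Cfsg.Agent.H436 Cfsg.Agent.H56.Exc Cfsg.Agent.H563.KG
open Cfsg.Agent.H817.DPi Cfsg.Agent.H988.CPi Cfsg.Agent.H571.RV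

universe u

section frame

variable {π : Set ℕ} {S : Type u} [Group S] [Finite S] {P : Subgroup S} {K B : Subgroup (MulAut S)}
variable {p : ℕ} {ι : Type*} {C : ι → ℕ → Prop} {m e : ι → ℕ}

/-- **The dichotomy**, with one more piece of information. -/
theorem cases' [IsSimpleGroup S] (hna : ¬ IsMulCommutative S) (hc : Cfg π P K B) (h : Tori S p C m e) (hp : p.Prime)
    (hpπ : p ∉ π) :
    ((∀ i r, C i r → ¬ r ∣ Nat.card P) ∧ ∀ i r, C i r → ∀ k, r ^ k ∣ (tr B).index → r ^ k ∣ (inn S).index) ∨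
      ∃ i₀, (∀ i r, i ≠ i₀ → C i r → ∀ k, r ^ k ∣ (tr B).index → r ^ k ∣ (inn S).index) ∧
        ∀ k, p ^ k ∣ (tr B).index → p ^ k ∣ (inn S).index := by
  have hsol := solv hc
  have key : ∀ i r, C i r → ¬ r ∣ Nat.card P → ∀ k, r ^ k ∣ (tr B).index → r ^ k ∣ (inn S).index := by
    intro i r hr hrP k hk
    have hb := h.big i r hr
    have h1 := (hk.trans (index_dvd hc)).trans (Nat.mul_dvd_mul_left _ (card_K_dvd hna K))
    exact prime_pow_dvd hb.prime (prime_pow_dvd hb.prime h1 hrP) (not_dvd_tr_K hc hb)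
  by_cases hall : ∃ i r, C i r ∧ r ∣ Nat.card P
  · obtain ⟨i₀, r₀, hr₀, hd⟩ := hall
    refine Or.inr ⟨i₀, fun i r hi hr => key i r hr fun hrP => ?_, fun k hk => ?_⟩
    · exact h.not_isSolvable P hi.symm hr₀ hr hd hrP hsol
    · have h1 := (hk.trans (index_dvd hc)).trans (Nat.mul_dvd_mul_left _ (card_K_dvd hna K))
      have h2 : ¬ p ∣ Nat.card P := fun h2 => hpπ (hc.hall.1 p hp h2)
      refine prime_pow_dvd hp (prime_pow_dvd hp h1 h2) fun h3 => ?_
      have hb := h.big i₀ r₀ hr₀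
      have := Fact.mk hb.prime
      obtain ⟨x, hx⟩ := exists_prime_orderOf_dvd_card' r₀ hd
      have hx' : orderOf (x : S) = r₀ := by rw [Subgroup.orderOf_coe]; exact hx
      exact h.ndvd i₀ ((h3.trans (Subgroup.card_dvd_of_le (tr_K_le hc x.2))).trans (hb.card _ hx'))
  · push Not at hall
    exact Or.inl ⟨hall, fun i r hr => key i r hr (hall i r hr)⟩

/-- **No configuration**, all classes by the `p`-part. -/
theorem row_frame' [IsSimpleGroup S] (hna : ¬ IsMulCommutative S) (hE : CycFixSolv.{u}) (h : Tori S p C m e)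
    (hp : p.Prime) {f c₀ : ℕ} (hf : f ≠ 0) (hc₀ : c₀ ≠ 0) (ho : Nat.card (Cfsg.Out S) = c₀ * f)
    (hr0 : ∀ i r, C i r → ¬ r ∣ c₀) (hv : ∀ i r, C i r → ∀ v, r ^ v ∣ f → r ^ (v + 1) ∣ Nat.card S)
    {π : Set ℕ} (hpπ : p ∉ π) {P : Subgroup S} {K B : Subgroup (MulAut S)} (hc : Cfg π P K B)
    (hK : (∀ i r, C i r → ¬ r ∣ Nat.card P) → (∀ i r, C i r → ¬ r ∣ f → ¬ r ∣ (tr B).index) → False)
    (hcase : ∀ i₀, ∃ i, Way S p (c₀ * f) C e i₀ i) : False := by
  have hM := tr_ne_top hna hc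
  have hno : ∀ i r, C i r → (∀ k, r ^ k ∣ (tr B).index → r ^ k ∣ (inn S).index) → ¬ r ∣ f → ¬ r ∣ (tr B).index := by
    intro i r hr hk hrf hd
    have h1 := hk 1 (by rwa [pow_one])
    rw [pow_one, index_inn, ho] at h1
    rcases (h.big i r hr).prime.dvd_mul.1 h1 with h2 | h2
    · exact hr0 i r hr h2
    · exact hrf h2
  rcases cases' hna hc h hp hpπ with ⟨h0, h1⟩ | ⟨i₀, h1, h2⟩
  · exact hK h0 fun i r hr hrf => hno i r hr (h1 i r hr) hrf
  · obtain ⟨i, h3⟩ := hcase i₀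
    have hMd : ∀ r, C i r → r ∣ Nat.card (tr B) := by
      intro r hr
      have hrp := (h.big i r hr).prime
      set v := f.factorization r with hvd
      have h4 := hv i r hr v (Nat.ordProj_dvd _ _)
      by_contra h5
      rw [← Subgroup.card_mul_index (tr B)] at h4
      have h6 := h1 i r h3.ne hr (v + 1) (prime_pow_dvd hrp h4 h5)
      rw [index_inn, ho] at h6
      have h7 := prime_pow_dvd hrp h6 (hr0 i r hr)
      have h8 := (hrp.pow_dvd_iff_le_factorization hf).1 h7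
      omega
    obtain ⟨N, hN, hN', hnum⟩ := h3.num
    have hidx : ∀ k, p ^ k ∣ (tr B).index → p ^ k ∣ c₀ * f := fun k hk => by
      have h4 := h2 k hk
      rwa [index_inn, ho] at h4
    by_cases hp2 : p ^ 2 ∣ c₀ * f
    · exact hM (bigp hE h hp i (tr B) hMd h3.bt hidx h3.e_ne (Nat.mul_ne_zero hc₀ hf) hN hN' (hnum hp2))
    · obtain ⟨r, hr⟩ := h.ne i
      exact h3.par.elim (h3.bt r hr) (tr B) hM (fun h4 => hp2 (hidx 2 h4)) (hMd r hr)

end frame

theorem exists_two' {F : Type} [Field F] [Fintype F] (h : 4 ≤ Fintype.card F) :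
    ∃ a a' : F, a ≠ 0 ∧ a ≠ 1 ∧ a' ≠ 0 ∧ a' ≠ 1 ∧ a ≠ a' := by
  classical
  have h1 : 1 < ((Finset.univ : Finset F) \ {0, 1}).card := by
    have h2 := Finset.le_card_sdiff ({0, 1} : Finset F) (Finset.univ : Finset F)
    have h3 : ({0, 1} : Finset F).card ≤ 2 := Finset.card_le_two
    rw [Finset.card_univ] at h2
    omega
  obtain ⟨a, ha, b, hb, hab⟩ := Finset.one_lt_card.1 h1
  simp only [Finset.mem_sdiff, Finset.mem_univ, true_and, Finset.mem_insert, Finset.mem_singleton, not_or] at ha hb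
  exact ⟨a, b, ha.1, ha.2, hb.1, hb.2, hab⟩

/-- the name of `G₂(q)` -/
theorem named_g2 {F : Type} [Field F] [Fintype F] {q : ℕ} (hF : Fintype.card F = q) (h3 : 3 ≤ q) (hq : IsPrimePow q) :
    IsNamed (.g2 q) ↥(chevG2.group F) := by
  refine IsNamed.mk' ⟨F, inferInstance, inferInstance, hF, ⟨MulEquiv.refl _⟩⟩ ⟨h3, hq⟩ ?_
  have h := Cfsg.Agent.S1059.result hF
  show 1 * _ = q ^ 6 * ((q ^ 2 - 1) * (q ^ 6 - 1))
  rw [one_mul, h]
  ring

/-- The K theorem for `G₂(q)` (`H983.KG2.kfull_G2`). -/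
def KGTwo : Prop := ∀ (p f : ℕ), p.Prime → 1 ≤ f → ∀ (T : Type) [Group T] [Finite T], IsNamed (.g2 (p ^ f)) T →
  ∀ M : Subgroup T, (∀ r, (Prim (p ^ f) 3 r ∨ Prim (p ^ f) 6 r) → ¬ r ∣ f → ¬ r ∣ M.index) →
    M = ⊤ ∨ ((p ^ f = 3 ∨ p ^ f = 4) ∧ Nat.card M = 1092 ∧ OrdDiv.Real (.psl 2 13) M)

/-- the prime divisors of `|G₂(3)|` and `|G₂(4)|` -/
theorem primes_g2 {r q : ℕ} (hr : r.Prime) (hq : q = 3 ∨ q = 4) (h : r ∣ q ^ 6 * (q ^ 2 - 1) * (q ^ 6 - 1)) :
    r = 2 ∨ r = 3 ∨ r = 7 ∨ r = 13 ∨ (r = 5 ∧ q = 4) := by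
  rcases hq with rfl | rfl
  · have h1 : r ∣ 2 ^ 6 * (3 ^ 6 * (7 * 13)) := by
      rwa [show (3 : ℕ) ^ 6 * (3 ^ 2 - 1) * (3 ^ 6 - 1) = 2 ^ 6 * (3 ^ 6 * (7 * 13)) by norm_num] at h
    rcases hr.dvd_mul.1 h1 with h2 | h2
    · exact Or.inl ((Nat.prime_dvd_prime_iff_eq hr Nat.prime_two).1 (hr.dvd_of_dvd_pow h2))
    rcases hr.dvd_mul.1 h2 with h3 | h3
    · exact Or.inr (Or.inl ((Nat.prime_dvd_prime_iff_eq hr Nat.prime_three).1 (hr.dvd_of_dvd_pow h3)))
    rcases hr.dvd_mul.1 h3 with h4 | h4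
    · exact Or.inr (Or.inr (Or.inl ((Nat.prime_dvd_prime_iff_eq hr (by norm_num)).1 h4)))
    · exact Or.inr (Or.inr (Or.inr (Or.inl ((Nat.prime_dvd_prime_iff_eq hr (by norm_num)).1 h4))))
  · have h1 : r ∣ 2 ^ 12 * (3 ^ 3 * (5 ^ 2 * (7 * 13))) := by
      rwa [show (4 : ℕ) ^ 6 * (4 ^ 2 - 1) * (4 ^ 6 - 1) = 2 ^ 12 * (3 ^ 3 * (5 ^ 2 * (7 * 13))) by norm_num] at h
    rcases hr.dvd_mul.1 h1 with h2 | h2
    · exact Or.inl ((Nat.prime_dvd_prime_iff_eq hr Nat.prime_two).1 (hr.dvd_of_dvd_pow h2))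
    rcases hr.dvd_mul.1 h2 with h3 | h3
    · exact Or.inr (Or.inl ((Nat.prime_dvd_prime_iff_eq hr Nat.prime_three).1 (hr.dvd_of_dvd_pow h3)))
    rcases hr.dvd_mul.1 h3 with h5 | h5
    · exact Or.inr (Or.inr (Or.inr (Or.inr ⟨(Nat.prime_dvd_prime_iff_eq hr Nat.prime_five).1 (hr.dvd_of_dvd_pow h5), rfl⟩)))
    rcases hr.dvd_mul.1 h5 with h4 | h4
    · exact Or.inr (Or.inr (Or.inl ((Nat.prime_dvd_prime_iff_eq hr (by norm_num)).1 h4)))
    · exact Or.inr (Or.inr (Or.inr (Or.inl ((Nat.prime_dvd_prime_iff_eq hr (by norm_num)).1 h4))))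

variable (tb : OrderTable.{0}) (hE : CycFixSolv.{0}) (hcf : CF) {p f : ℕ}

include tb hE hcf

/-- **`G₂(q)`** -/
theorem false_G2 (hKG : KGTwo) {F : Type} [Field F] [Fintype F] (hp : p.Prime) (hf : 1 ≤ f) (h3 : 3 ≤ p ^ f)
    (hF : Fintype.card F = p ^ f)
    [IsSimpleGroup ↥(chevG2.group F)] (hna : ¬ IsMulCommutative ↥(chevG2.group F)) {π : Set ℕ} (hpπ : p ∉ π)
    {P : Subgroup ↥(chevG2.group F)} {K B : Subgroup (MulAut ↥(chevG2.group F))} (hc : Cfg π P K B) : False := by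
  have := Fact.mk hp
  have := charP_of_card' (F := F) hp hF
  have hq2 : 2 ≤ p ^ f := by omega
  have hT : IsNamed (.g2 (p ^ f)) ↥(chevG2.group F) :=
    named_g2 hF h3 (hp.isPrimePow.pow (by omega))
  have hord := Cfsg.Agent.S1059.result hF
  have hN : p ^ (6 * f) ∣ Nat.card ↥(chevG2.group F) := by
    rw [hord, mul_comm 6 f, pow_mul, mul_assoc]
    exact Dvd.intro _ rfl
  have hcl : ∀ (i : Fin 2) (r : ℕ), Prim (p ^ f) (rows_G2 i).i r → 5 ≤ r := by
    intro i r hr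
    fin_cases i
    · exact Cfsg.Agent.H264.FKS.five_le_of_prim le_rfl hr
    · exact Cfsg.Agent.H264.FKS.five_le_of_prim (show 3 ≤ 6 by norm_num) hr
  have hbt : ∀ (i : Fin 2) (r : ℕ), Prim (p ^ f) (rows_G2 i).i r → BT ↥(chevG2.group F) p r := by
    intro i r hr
    fin_cases i
    · exact Cfsg.Agent.H325.IsoExc.piso_G2 (by omega) (Or.inl rfl) (by rw [hF]; exact hr)
    · exact Cfsg.Agent.H325.IsoExc.piso_G2 (by omega) (Or.inr rfl) (by rw [hF]; exact hr)
  have hpar : ParP p ↥(chevG2.group F) := by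
    rcases eq_or_lt_of_le h3 with h | h
    · have hp3 : p = 3 := by
        have h5 : p ∣ 3 := by rw [h]; exact dvd_pow_self p (by omega)
        exact (Nat.prime_dvd_prime_iff_eq hp Nat.prime_three).1 h5
      subst hp3
      exact Cfsg.Agent.H396.ParG23.par_G2_three tb hcf (by rw [hF, ← h])
    · exact (Cfsg.Agent.H396.CommTab.hasCG_G2 F p (exists_two' (by omega))).par
  have hc₀ : (if p = 3 then 2 else 1) ≤ 2 ∧ 0 < (if p = 3 then 2 else 1) := by split_ifs <;> omega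
  have ho : Nat.card (Cfsg.Out ↥(chevG2.group F)) = (if p = 3 then 2 else 1) * f := by
    rw [Cfsg.Agent.S2121.result p f hF h3]; split_ifs <;> ring
  refine row_frame' hna hE (tori_G2 hF hp (dvd_pow_self p (by omega)) h3) hp (f := f)
    (c₀ := if p = 3 then 2 else 1) (by omega) (by omega) ho ?_ ?_ hpπ hc ?_ ?_
  · intro i r hr
    exact not_dvd_small (b := 2) hc₀.2 hc₀.1 (by have := hcl i r hr; omega)
  · intro i r hr v hv
    have h8 := hcl i r hr
    have h9 : r ^ (v + 1) ∣ (p ^ f) ^ 6 - 1 := by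
      fin_cases i
      · exact (lte (c := 3) hr hv).trans (Nat.pow_sub_one_dvd_pow_sub_one (p ^ f) (show 3 ∣ 6 by norm_num))
      · exact lte (c := 6) hr hv
    rw [hord]
    exact h9.mul_left _
  · intro h0 h1
    rcases hKG p f hp hf _ hT (tr B) (fun r hr hrf => by
      rcases hr with h | h
      · exact h1 0 r h hrf
      · exact h1 1 r h hrf) with h | ⟨hq, hM, -⟩
    · exact tr_ne_top hna hc h
    · -- the small fields
      have h7 : ∀ r, r.Prime → r ∈ π → r ∣ Nat.card P → r = 5 ∧ p ^ f = 4 := by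
        intro r hr hrπ hrP
        have h2 : r ∣ Nat.card ↥(chevG2.group F) := hrP.trans (Subgroup.card_subgroup_dvd_card P)
        rw [hord] at h2
        rcases primes_g2 hr hq h2 with rfl | rfl | rfl | rfl | h3
        · exact absurd hrπ hc.two
        · -- `3` divides the order of the trace
          exfalso
          refine hc.piB 3 hr hrπ (dvd_trans ?_ (card_tr_dvd hna))
          rw [hM]; norm_num
        · exfalso
          refine hc.piB 7 hr hrπ (dvd_trans ?_ (card_tr_dvd hna))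
          rw [hM]; norm_num
        · exfalso
          refine hc.piB 13 hr hrπ (dvd_trans ?_ (card_tr_dvd hna))
          rw [hM]; norm_num
        · exact h3
      apply hc.nnil
      have h8 : ∀ {r : ℕ}, r.Prime → r ∣ Nat.card P → r = 5 := fun {r} hr hd => (h7 r hr (hc.hall.1 r hr hd) hd).1
      have : Fact (Nat.Prime 5) := ⟨Nat.prime_five⟩
      exact (IsPGroup.of_card (Nat.eq_prime_pow_of_unique_prime_dvd Nat.card_pos.ne' h8)).isNilpotent
  · intro i₀
    have hpow : ∀ k, p ^ k ≤ p ^ f → k ≤ f := fun k h => (Nat.pow_le_pow_iff_right hp.one_lt).1 h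
    -- the arithmetic
    have hnum : p ^ 2 ∣ (if p = 3 then 2 else 1) * f →
        4 ≤ f ∧ (p = 2 → 4 ∣ f) ∧ ∀ k, p ^ k ∣ 6 * ((if p = 3 then 2 else 1) * f) → k ≤ f := by
      intro h
      have hpf : p ^ 2 ∣ f := by
        split_ifs at h with h5
        · exact prime_pow_dvd hp h (by rw [h5]; norm_num)
        · rwa [one_mul] at h
      have hf4 : p ^ 2 ≤ f := Nat.le_of_dvd (by omega) hpf
      have hp4 : 4 ≤ p ^ 2 := by nlinarith [hp.two_le]
      refine ⟨by omega, fun h2 => by rw [h2] at hpf; exact hpf, fun k hk => ?_⟩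
      have h5 : p ^ k ∣ p * f := by
        rcases eq_or_ne p 3 with h6 | h6
        · rw [if_pos h6] at hk
          subst h6
          have h7 : 3 ^ k ∣ 4 * (3 * f) := by
            rw [show 4 * (3 * f) = 6 * (2 * f) by ring]; exact hk
          exact prime_pow_dvd hp h7 (by norm_num)
        · rw [if_neg h6, one_mul] at hk
          rcases eq_or_ne p 2 with h7 | h7
          · subst h7
            have h8 : 2 ^ k ∣ 3 * (2 * f) := by
              rw [show 3 * (2 * f) = 6 * f by ring]; exact hk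
            exact prime_pow_dvd hp h8 (by norm_num)
          · refine (prime_pow_dvd hp hk fun h8 => ?_).mul_left _
            have h9 : p ∣ 2 * 3 := h8
            rcases hp.dvd_mul.1 h9 with h10 | h10
            · exact h7 ((Nat.prime_dvd_prime_iff_eq hp Nat.prime_two).1 h10)
            · exact h6 ((Nat.prime_dvd_prime_iff_eq hp Nat.prime_three).1 h10)
      by_contra hcon
      push Not at hcon
      have h6 : p ^ (f + 1) ∣ p * f := (pow_dvd_pow p hcon).trans h5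
      rw [pow_succ'] at h6
      have h7 := Nat.dvd_of_mul_dvd_mul_left hp.pos h6
      have h8 := Nat.le_of_dvd (by omega) h7
      have h9 : f < p ^ f := Nat.lt_pow_self hp.one_lt
      omega
    have hlt : 6 * ((if p = 3 then 2 else 1) * f) < p ^ (6 * f) := by
      rw [← mul_assoc]
      exact num_bound hp hf (by norm_num; split_ifs <;> norm_num) (by norm_num)
    fin_cases i₀
    · refine ⟨1, by decide, hbt 1, hpar, by decide, 6 * f, hN, hlt, fun h => ?_⟩
      obtain ⟨a1, a2, a3⟩ := hnum h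
      exact Cfsg.Agent.H363.DQ.bigP_G2 hcf hp a1 a2 hF a3 _
    · refine ⟨0, by decide, hbt 0, hpar, by decide, 6 * f, hN, hlt, fun h => ?_⟩
      obtain ⟨a1, a2, a3⟩ := hnum h
      exact Cfsg.Agent.H363.DQ.bigP_G2 hcf hp a1 a2 hF a3 _

end Cfsg.Agent.H311.DQ
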