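import Cfsg.Agent.H311.DQ.Row
import Cfsg.Agent.H946.KZ.Rows
import Cfsg.Agent.H946.KZ.Gap
import Cfsg.Agent.H363.DQ.BigFin
import Cfsg.Agent.H56.Exc.FacRows
import Cfsg.Agent.H396.ParF4
import Cfsg.Agent.H396.CommTab2
import Cfsg.Agent.H396.CommTab3
import Cfsg.Agent.H325.IsoFree
import Cfsg.Agent.S2122
import Cfsg.Agent.S2123
import Cfsg.Agent.S2130

/-!
# S4247: the rows `F₄(q)`, `E₆(q)`, `²E₆(q)`, characteristic not in `π` (helper311)

`false_F4`, `false_E6`, `false_TE6`.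
-/

set_option autoImplicit false
set_option linter.unusedSectionVars false

namespace Cfsg.Agent.H311.DQ

open Cfsg Cfsg.Lie Cfsg.Agent.OrdDiv Cfsg.Agent.H436 Cfsg.Agent.H56.Exc Cfsg.Agent.H563.KG Cfsg.Agent.H817.DPi
open Cfsg.Agent.H946.KZ (prim_base zs_not_dvd not_dvd_of_lt KZ_F4 KZ_E6 KZ_TE6)

/-- the exact powers in the order -/
theorem hv_of {g : Grp} {S : Type*} [Group S] (hT : IsNamed g S) {p f c r v : ℕ} (hr : Prim (p ^ f) c r)
    (hden0 : 0 < den g) (hden : den g < r) (hnum : (p ^ f) ^ c - 1 ∣ num g) (hv : r ^ v ∣ f) :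
    r ^ (v + 1) ∣ Nat.card S := by
  have h1 := (lte hr hv).trans hnum
  rw [← hT.eq] at h1
  exact prime_pow_dvd hr.prime h1 fun h2 => by
    have := Nat.le_of_dvd hden0 h2
    omega

theorem num_bound {a N p f : ℕ} (hp : p.Prime) (hf : 1 ≤ f) (ha : a ≤ 2 ^ (N - 1)) (hN : 1 ≤ N) :
    a * f < p ^ (N * f) := by
  have h1 : f < 2 ^ f := Nat.lt_two_pow_self
  calc a * f ≤ 2 ^ (N - 1) * f := Nat.mul_le_mul_right _ ha
    _ < 2 ^ (N - 1) * 2 ^ f := Nat.mul_lt_mul_of_pos_left h1 (by positivity)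
    _ = 2 ^ (N - 1 + f) := by rw [pow_add]
    _ ≤ 2 ^ (N * f) := by
        refine Nat.pow_le_pow_right (by norm_num) ?_
        obtain ⟨k, rfl⟩ := Nat.exists_eq_add_of_le' hN
        obtain ⟨j, rfl⟩ := Nat.exists_eq_add_of_le' hf
        have : (k + 1) * (j + 1) = k * j + k + j + 1 := by ring
        omega
    _ ≤ p ^ (N * f) := Nat.pow_le_pow_left hp.two_le _

theorem gcd_le {s n : ℕ} (hs : 0 < s) : Nat.gcd s n ≤ s := Nat.gcd_le_left _ hs

theorem not_dvd_small {r c b : ℕ} (hc : 0 < c) (hcb : c ≤ b) (hr : b < r) : ¬ r ∣ c := fun h => by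
  have := Nat.le_of_dvd hc h
  omega

/-- the characteristic -/
theorem charP_of_card' {F : Type} [Field F] [Fintype F] {p f : ℕ} (hp : p.Prime) (hF : Fintype.card F = p ^ f) :
    CharP F p := by
  obtain ⟨p', f', hc, hp', hf', h⟩ := exists_pf F
  rw [hF] at h
  have h1 : p' ∣ p ^ f := by rw [h]; exact dvd_pow_self _ (by omega)
  have h2 := (Nat.prime_dvd_prime_iff_eq hp' hp).1 (hp'.dvd_of_dvd_pow h1)
  exact h2 ▸ hc

variable (tb : OrderTable.{0}) (hE : CycFixSolv.{0}) (hcf : CF) {p f : ℕ}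

include tb hE hcf

/-! ### `F₄(q)` -/

theorem kf_F4 {F : Type} [Field F] [Fintype F] (hp : p.Prime) (hf : 1 ≤ f) (hF : Fintype.card F = p ^ f) :
    KFull ↥(chevF4.group F) fun r => ∃ i : Fin 2, Prim (p ^ f) (rows_F4 i).i r ∧ ¬ r ∣ f := by
  intro M hM
  have := charP_of_card' (F := F) hp hF
  have hq2 : 2 ≤ p ^ f := hp.two_le.trans (Nat.le_self_pow (by omega) p)
  have hmem : ∀ c ∈ [12, 8], c = 12 ∨ c = 8 := by decide
  have key : ∀ c ∈ [12, 8], ∀ r, Prim (p ^ f) c r → ¬ r ∣ f → ¬ r ∣ M.index := by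
    intro c hc r hr hrf
    rcases hmem c hc with rfl | rfl
    · exact hM r ⟨1, hr, hrf⟩
    · exact hM r ⟨0, hr, hrf⟩
  by_cases h9 : 9 ≤ f
  · exact KZ_F4 tb hE hcf hp h9 hF M fun c hc r hr => key c hc r (prim_base hf hr)
      (zs_not_dvd hp hf (by have := hmem c hc; omega) hr)
  · refine K_F4 tb hE hcf M fun c hc r hr => ?_
    rw [hF] at hr
    have := hmem c hc
    have := Cfsg.Agent.H563.KG.lt_of_prim hq2 (by omega) hr
    exact key c hc r hr (not_dvd_of_lt hf (by omega))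

/-- **`F₄(q)`** -/
theorem false_F4 {F : Type} [Field F] [Fintype F] (hp : p.Prime) (hf : 1 ≤ f) (hF : Fintype.card F = p ^ f)
    [IsSimpleGroup ↥(chevF4.group F)] (hna : ¬ IsMulCommutative ↥(chevF4.group F)) {π : Set ℕ} (hpπ : p ∉ π)
    {P : Subgroup ↥(chevF4.group F)} {K B : Subgroup (MulAut ↥(chevF4.group F))} (hc : Cfg π P K B) : False := by
  have := Fact.mk hp
  have := charP_of_card' (F := F) hp hF
  have hq2 : 2 ≤ p ^ f := hp.two_le.trans (Nat.le_self_pow (by omega) p)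
  have hT := named_f4 (F := F) tb
  rw [hF] at hT
  have hg2 := gcd_le (s := 2) (n := p) (by norm_num)
  have hg0 : 0 < Nat.gcd 2 p := Nat.gcd_pos_of_pos_left _ (by norm_num)
  have hN : p ^ (24 * f) ∣ Nat.card ↥(chevF4.group F) := by
    apply pow_dvd_card (D := 1) hp (fun h => hp.one_lt.ne' (Nat.dvd_one.1 h))
    rw [Nat.cast_one, one_mul, ord_F4 hF, mul_assoc, mul_assoc, mul_assoc]
  have hcl : ∀ (i : Fin 2) (r : ℕ), Prim (p ^ f) (rows_F4 i).i r → 8 < r ∧ r ^ 1 ∣ r := by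
    intro i r hr
    refine ⟨?_, by rw [pow_one]⟩
    fin_cases i
    · exact Cfsg.Agent.H563.KG.lt_of_prim hq2 (show 1 ≤ 8 by norm_num) hr
    · have := Cfsg.Agent.H563.KG.lt_of_prim hq2 (show 1 ≤ 12 by norm_num) hr
      omega
  refine row_frame hna hE (tori_F4 hF hp (dvd_pow_self p (by omega)) hq2) hp (f := f) (c₀ := Nat.gcd 2 p) (by omega) (by omega)
    (Cfsg.Agent.S2122.result p f hF) ?_ ?_ (kf_F4 tb hE hcf hp hf hF) ?_ hpπ hc
  · intro i r hr
    exact not_dvd_small hg0 hg2 (by have := (hcl i r hr).1; omega)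
  · intro i r hr v hv
    have h8 := (hcl i r hr).1
    refine hv_of hT hr (den_pos hT.cond) (lt_of_le_of_lt (show den (.f4 (p ^ f)) ≤ 1 from le_rfl) (by omega)) ?_ hv
    show _ ∣ (p ^ f) ^ 24 * (((p ^ f) ^ 2 - 1) * ((p ^ f) ^ 6 - 1) * ((p ^ f) ^ 8 - 1) * ((p ^ f) ^ 12 - 1))
    fin_cases i
    · exact ((Dvd.intro_left _ rfl).trans (Dvd.intro _ rfl)).trans (Dvd.intro_left _ rfl)
    · exact (Dvd.intro_left _ rfl).trans (Dvd.intro_left _ rfl)
  · intro i₀
    right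
    have hpk : ∀ a, a ≤ 24 → 0 < a → ∀ k, p ^ k ∣ a * f → k ≤ 5 * f := fun a ha ha0 =>
      Cfsg.Agent.H363.DQ.pk_le hp (fun h => by
        have h1 := Nat.le_of_dvd ha0 h
        have h2 : 2 ^ 6 ≤ p ^ (5 + 1) := Nat.pow_le_pow_left hp.two_le 6
        omega) (by norm_num) hf
    have hbt : ∀ (i : Fin 2) (r : ℕ), Prim (p ^ f) (rows_F4 i).i r → BT ↥(chevF4.group F) p r := by
      intro i r hr
      fin_cases i
      · exact Cfsg.Agent.H325.IsoExc.piso_F4 (Or.inl rfl) (by rw [hF]; exact hr)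
      · exact Cfsg.Agent.H325.IsoExc.piso_F4 (Or.inr rfl) (by rw [hF]; exact hr)
    fin_cases i₀
    · refine ⟨1, by decide, hbt 1, Cfsg.Agent.H396.ParF4.par_F4 p, by decide, 24 * f, hN, ?_, fun _ => ?_⟩
      · show 12 * (Nat.gcd 2 p * f) < _
        rw [← mul_assoc]
        exact num_bound hp hf (by norm_num; omega) (by norm_num)
      · show BigP _ _ _ (12 * (Nat.gcd 2 p * f)) _
        rw [← mul_assoc]
        exact Cfsg.Agent.H363.DQ.bigP_F4_12 hcf hp hf hF (hpk _ (by omega) (by omega))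
    · refine ⟨0, by decide, hbt 0, Cfsg.Agent.H396.ParF4.par_F4 p, by decide, 24 * f, hN, ?_, fun _ => ?_⟩
      · show 8 * (Nat.gcd 2 p * f) < _
        rw [← mul_assoc]
        exact num_bound hp hf (by norm_num; omega) (by norm_num)
      · show BigP _ _ _ (8 * (Nat.gcd 2 p * f)) _
        rw [← mul_assoc]
        exact Cfsg.Agent.H363.DQ.bigP_F4_8 hcf hp hf hF (hpk _ (by omega) (by omega))

/-! ### `E₆(q)` -/

theorem kf_E6 {F : Type} [Field F] [Fintype F] (hp : p.Prime) (hf : 1 ≤ f) (hF : Fintype.card F = p ^ f) :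
    KFull ↥(chevE6.group F) fun r => ∃ i : Fin 2, Prim (p ^ f) (rows_E6 i).i r ∧ ¬ r ∣ f := by
  intro M hM
  have := charP_of_card' (F := F) hp hF
  have hq2 : 2 ≤ p ^ f := hp.two_le.trans (Nat.le_self_pow (by omega) p)
  have hmem : ∀ c ∈ [9, 12], c = 9 ∨ c = 12 := by decide
  have key : ∀ c ∈ [9, 12], ∀ r, Prim (p ^ f) c r → ¬ r ∣ f → ¬ r ∣ M.index := by
    intro c hc r hr hrf
    rcases hmem c hc with rfl | rfl
    · exact hM r ⟨0, hr, hrf⟩
    · exact hM r ⟨1, hr, hrf⟩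
  by_cases h9 : 13 ≤ f
  · exact KZ_E6 tb hE hcf hp h9 hF M fun c hc r hr => key c hc r (prim_base hf hr)
      (zs_not_dvd hp hf (by have := hmem c hc; omega) hr)
  · refine K_E6 tb hE hcf M fun c hc r hr => ?_
    rw [hF] at hr
    refine key c hc r hr (not_dvd_of_lt hf ?_)
    have h1 := hmem c hc
    have h2 := Cfsg.Agent.H563.KG.lt_of_prim hq2 (by omega) hr
    rcases h1 with rfl | rfl
    · have h3 : 9 ∣ r - 1 := Nat.dvd_of_mod_eq_zero (mod_of_prim hq2 (by norm_num) hr)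
      have h4 := hr.prime
      by_contra h5
      have h6 : r = 10 := by omega
      rw [h6] at h4
      norm_num at h4
    · omega

/-- **`E₆(q)`** -/
theorem false_E6 {F : Type} [Field F] [Fintype F] (hp : p.Prime) (hf : 1 ≤ f) (hF : Fintype.card F = p ^ f)
    [IsSimpleGroup ↥(chevE6.group F)] (hna : ¬ IsMulCommutative ↥(chevE6.group F)) {π : Set ℕ} (hpπ : p ∉ π)
    {P : Subgroup ↥(chevE6.group F)} {K B : Subgroup (MulAut ↥(chevE6.group F))} (hc : Cfg π P K B) : False := by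
  have := Fact.mk hp
  have := charP_of_card' (F := F) hp hF
  have hq2 : 2 ≤ p ^ f := hp.two_le.trans (Nat.le_self_pow (by omega) p)
  have hT := named_e6 (F := F) tb
  rw [hF] at hT
  have hg3 := gcd_le (s := 3) (n := p ^ f - 1) (by norm_num)
  have hg0 : 0 < Nat.gcd 3 (p ^ f - 1) := Nat.gcd_pos_of_pos_left _ (by norm_num)
  have hgd : Nat.gcd 3 (p ^ f - 1) ∣ 3 := Nat.gcd_dvd_left _ _
  have hN : p ^ (36 * f) ∣ Nat.card ↥(chevE6.group F) := by
    apply pow_dvd_card (D := Nat.gcd 3 (p ^ f - 1)) hp (not_dvd_gcd_sub hp (by omega))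
    rw [ord_E6 hF, mul_assoc, mul_assoc, mul_assoc, mul_assoc, mul_assoc]
  have hcl : ∀ (i : Fin 2) (r : ℕ), Prim (p ^ f) (rows_E6 i).i r → 9 < r := by
    intro i r hr
    fin_cases i
    · exact Cfsg.Agent.H563.KG.lt_of_prim hq2 (show 1 ≤ 9 by norm_num) hr
    · have := Cfsg.Agent.H563.KG.lt_of_prim hq2 (show 1 ≤ 12 by norm_num) hr
      omega
  refine row_frame hna hE (tori_E6 hF hp (dvd_pow_self p (by omega)) hq2) hp (f := f)
    (c₀ := 2 * Nat.gcd 3 (p ^ f - 1)) (by omega) (by omega)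
    (Cfsg.Agent.S2123.result p f hF) ?_ ?_ (kf_E6 tb hE hcf hp hf hF) ?_ hpπ hc
  · intro i r hr
    exact not_dvd_small (b := 6) (by omega) (by omega) (by have := hcl i r hr; omega)
  · intro i r hr v hv
    have h8 := hcl i r hr
    refine hv_of hT hr (den_pos hT.cond) (lt_of_le_of_lt (show den (.e6 (p ^ f)) ≤ 3 from hg3) (by omega)) ?_ hv
    show _ ∣ (p ^ f) ^ 36 * (((p ^ f) ^ 2 - 1) * ((p ^ f) ^ 5 - 1) * ((p ^ f) ^ 6 - 1) *
        ((p ^ f) ^ 8 - 1) * ((p ^ f) ^ 9 - 1) * ((p ^ f) ^ 12 - 1))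
    fin_cases i
    · exact ((Dvd.intro_left _ rfl).trans (Dvd.intro _ rfl)).trans (Dvd.intro_left _ rfl)
    · exact (Dvd.intro_left _ rfl).trans (Dvd.intro_left _ rfl)
  · intro i₀
    right
    have hpk : ∀ a, a ∣ 216 → ¬ 16 ∣ a → a ≤ 80 → 0 < a → ∀ k, p ^ k ∣ a * f → k ≤ 3 * f := fun a ha h16 ha8 ha0 =>
      Cfsg.Agent.H363.DQ.pk_le hp (fun h => by
        rcases eq_or_lt_of_le hp.two_le with h2 | h2
        · rw [← h2] at h
          exact h16 h
        · have h1 := Nat.le_of_dvd ha0 h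
          have h2 : 3 ^ 4 ≤ p ^ (3 + 1) := Nat.pow_le_pow_left h2 4
          omega) (by norm_num) hf
    have hbt : ∀ (i : Fin 2) (r : ℕ), Prim (p ^ f) (rows_E6 i).i r → BT ↥(chevE6.group F) p r := by
      intro i r hr
      fin_cases i
      · exact Cfsg.Agent.H325.IsoExc.piso_E6 (by rw [hF]; exact hr)
      · exact Cfsg.Agent.H325.IsoFree.piso_E6_12 (by rw [hF]; exact hr)
    have hg : Nat.gcd 3 (p ^ f - 1) = 1 ∨ Nat.gcd 3 (p ^ f - 1) = 3 := (Nat.dvd_prime Nat.prime_three).1 hgd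
    fin_cases i₀
    · refine ⟨1, by decide, hbt 1, (Cfsg.Agent.H396.CommTab.hasCG_E6 F p).par, by decide, 36 * f, hN, ?_, fun _ => ?_⟩
      · show 12 * (2 * Nat.gcd 3 (p ^ f - 1) * f) < _
        rw [← mul_assoc]
        exact num_bound hp hf (by norm_num; omega) (by norm_num)
      · show BigP _ _ _ (12 * (2 * Nat.gcd 3 (p ^ f - 1) * f)) _
        rw [← mul_assoc]
        refine Cfsg.Agent.H363.DQ.bigP_E6_12 hcf hp hf hF (hpk _ ?_ ?_ (by omega) (by omega)) <;>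
          rcases hg with h | h <;> rw [h] <;> norm_num
    · refine ⟨0, by decide, hbt 0, (Cfsg.Agent.H396.CommTab.hasCG_E6 F p).par, by decide, 36 * f, hN, ?_, fun _ => ?_⟩
      · show 9 * (2 * Nat.gcd 3 (p ^ f - 1) * f) < _
        rw [← mul_assoc]
        exact num_bound hp hf (by norm_num; omega) (by norm_num)
      · show BigP _ _ _ (9 * (2 * Nat.gcd 3 (p ^ f - 1) * f)) _
        rw [← mul_assoc]
        refine Cfsg.Agent.H363.DQ.bigP_E6_9 hcf hp hf hF (hpk _ ?_ ?_ (by omega) (by omega)) <;>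
          rcases hg with h | h <;> rw [h] <;> norm_num

/-! ### `²E₆(q)` -/

theorem kf_TE6 {F : Type} [Field F] [Fintype F] (hp : p.Prime) (hf : 1 ≤ f) (hF : Fintype.card F = (p ^ f) ^ 2) :
    KFull ↥(twistedE6 F (p ^ f)) fun r => ∃ i : Fin 2, Prim (p ^ f) (rows_TE6 i).i r ∧ ¬ r ∣ f := by
  intro M hM
  have := charP_of_card' (F := F) hp (hF.trans (pow_mul p f 2).symm)
  have hq2 : 2 ≤ p ^ f := hp.two_le.trans (Nat.le_self_pow (by omega) p)
  have hmem : ∀ c ∈ [18, 12], c = 18 ∨ c = 12 := by decide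
  have key : ∀ c ∈ [18, 12], ∀ r, Prim (p ^ f) c r → ¬ r ∣ f → ¬ r ∣ M.index := by
    intro c hc r hr hrf
    rcases hmem c hc with rfl | rfl
    · exact hM r ⟨1, hr, hrf⟩
    · exact hM r ⟨0, hr, hrf⟩
  by_cases h9 : 13 ≤ f
  · exact KZ_TE6 tb hE hcf hp h9 hF M fun c hc r hr => key c hc r (prim_base hf hr)
      (zs_not_dvd hp hf (by have := hmem c hc; omega) hr)
  · refine K_TE6 tb hE hcf (hp.isPrimePow.pow (by omega)) hF M fun c hc r hr => ?_
    refine key c hc r hr (not_dvd_of_lt hf ?_)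
    have h1 := hmem c hc
    have h2 := Cfsg.Agent.H563.KG.lt_of_prim hq2 (by omega) hr
    omega

/-- **`²E₆(q)`** -/
theorem false_TE6 {F : Type} [Field F] [Fintype F] (hp : p.Prime) (hf : 1 ≤ f) (hF : Fintype.card F = (p ^ f) ^ 2)
    [IsSimpleGroup ↥(twistedE6 F (p ^ f))] (hna : ¬ IsMulCommutative ↥(twistedE6 F (p ^ f))) {π : Set ℕ} (hpπ : p ∉ π)
    {P : Subgroup ↥(twistedE6 F (p ^ f))} {K B : Subgroup (MulAut ↥(twistedE6 F (p ^ f)))} (hc : Cfg π P K B) :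
    False := by
  have := Fact.mk hp
  have hF' : Fintype.card F = p ^ (2 * f) := by rw [hF, ← pow_mul, mul_comm]
  have := charP_of_card' (F := F) hp hF'
  have hq : IsPrimePow (p ^ f) := hp.isPrimePow.pow (by omega)
  have hq2 : 2 ≤ p ^ f := hp.two_le.trans (Nat.le_self_pow (by omega) p)
  have hT := named_te6 (F := F) tb hq hF
  have hg3 := gcd_le (s := 3) (n := p ^ f + 1) (by norm_num)
  have hg0 : 0 < Nat.gcd 3 (p ^ f + 1) := Nat.gcd_pos_of_pos_left _ (by norm_num)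
  have hgd : Nat.gcd 3 (p ^ f + 1) ∣ 3 := Nat.gcd_dvd_left _ _
  have hN : p ^ (36 * f) ∣ Nat.card ↥(twistedE6 F (p ^ f)) := by
    apply pow_dvd_card (D := Nat.gcd 3 (p ^ f + 1)) hp (not_dvd_gcd_add hp (by omega))
    rw [ord_TE6 hq hF, mul_assoc, mul_assoc, mul_assoc, mul_assoc, mul_assoc]
  have hcl : ∀ (i : Fin 2) (r : ℕ), Prim (p ^ f) (rows_TE6 i).i r → 12 < r := by
    intro i r hr
    fin_cases i
    · exact Cfsg.Agent.H563.KG.lt_of_prim hq2 (show 1 ≤ 12 by norm_num) hr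
    · have := Cfsg.Agent.H563.KG.lt_of_prim hq2 (show 1 ≤ 18 by norm_num) hr
      omega
  refine row_frame hna hE (tori_TE6 hq hF hp (dvd_pow_self p (by omega)) hq2) hp (f := f)
    (c₀ := 2 * Nat.gcd 3 (p ^ f + 1)) (by omega) (by omega)
    (Cfsg.Agent.S2130.result p f hF' hf) ?_ ?_ (kf_TE6 tb hE hcf hp hf hF) ?_ hpπ hc
  · intro i r hr
    exact not_dvd_small (b := 6) (by omega) (by omega) (by have := hcl i r hr; omega)
  · intro i r hr v hv
    have h8 := hcl i r hr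
    fin_cases i
    · refine hv_of hT hr (den_pos hT.cond) (lt_of_le_of_lt (show den (.te6 (p ^ f)) ≤ 3 from hg3) (by omega)) ?_ hv
      show (p ^ f) ^ 12 - 1 ∣ (p ^ f) ^ 36 * (((p ^ f) ^ 2 - 1) * ((p ^ f) ^ 5 + 1) * ((p ^ f) ^ 6 - 1) *
        ((p ^ f) ^ 8 - 1) * ((p ^ f) ^ 9 + 1) * ((p ^ f) ^ 12 - 1))
      exact (Dvd.intro_left _ rfl).trans (Dvd.intro_left _ rfl)
    · -- class 18: `q^18 - 1 = (q^9 - 1) (q^9 + 1)`
      have hr' : Prim (p ^ f) 18 r := hr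
      have h1 := lte hr' hv
      have h2 : (p ^ f) ^ 18 - 1 = ((p ^ f) ^ 9 - 1) * ((p ^ f) ^ 9 + 1) := by
        obtain ⟨k, hk⟩ := Nat.exists_eq_add_of_le' (Nat.one_le_pow 9 (p ^ f) (by omega))
        have h3 : (p ^ f) ^ 18 = (p ^ f) ^ 9 * (p ^ f) ^ 9 := by ring
        rw [h3, hk, Nat.add_sub_cancel]
        have h4 : (k + 1) * (k + 1) = k * (k + 1 + 1) + 1 := by ring
        omega
      rw [h2] at h1
      have h3 : r ^ (v + 1) ∣ (p ^ f) ^ 9 + 1 := prime_pow_dvd hr'.prime h1 fun h => by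
        rw [hr'.dvd_iff] at h
        norm_num at h
      have h4 : r ^ (v + 1) ∣ num (.te6 (p ^ f)) := by
        refine h3.trans ?_
        show (p ^ f) ^ 9 + 1 ∣ (p ^ f) ^ 36 * (((p ^ f) ^ 2 - 1) * ((p ^ f) ^ 5 + 1) * ((p ^ f) ^ 6 - 1) *
          ((p ^ f) ^ 8 - 1) * ((p ^ f) ^ 9 + 1) * ((p ^ f) ^ 12 - 1))
        exact ((Dvd.intro_left _ rfl).trans (Dvd.intro _ rfl)).trans (Dvd.intro_left _ rfl)
      rw [← hT.eq] at h4
      exact prime_pow_dvd hr'.prime h4 (not_dvd_small (b := 3) (den_pos hT.cond) hg3 (by omega))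
  · intro i₀
    right
    have hpk : ∀ a, a ∣ 216 → ¬ 16 ∣ a → a ≤ 80 → 0 < a → ∀ k, p ^ k ∣ a * f → k ≤ 3 * f := fun a ha h16 ha8 ha0 =>
      Cfsg.Agent.H363.DQ.pk_le hp (fun h => by
        rcases eq_or_lt_of_le hp.two_le with h2 | h2
        · rw [← h2] at h
          exact h16 h
        · have h1 := Nat.le_of_dvd ha0 h
          have h2 : 3 ^ 4 ≤ p ^ (3 + 1) := Nat.pow_le_pow_left h2 4
          omega) (by norm_num) hf
    have hbt : ∀ (i : Fin 2) (r : ℕ), Prim (p ^ f) (rows_TE6 i).i r → BT ↥(twistedE6 F (p ^ f)) p r := by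
      intro i r hr
      fin_cases i
      · exact Cfsg.Agent.H325.IsoExc.piso_twE6 hq hF (Or.inl rfl) hr
      · exact Cfsg.Agent.H325.IsoExc.piso_twE6 hq hF (Or.inr rfl) hr
    have hg : Nat.gcd 3 (p ^ f + 1) = 1 ∨ Nat.gcd 3 (p ^ f + 1) = 3 := (Nat.dvd_prime Nat.prime_three).1 hgd
    fin_cases i₀
    · refine ⟨1, by decide, hbt 1, (Cfsg.Agent.H396.CommTab.hasCG_twE6 hq hF p).par, by decide, 36 * f, hN, ?_,
        fun _ => ?_⟩
      · show 9 * (2 * Nat.gcd 3 (p ^ f + 1) * f) < _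
        rw [← mul_assoc]
        exact num_bound hp hf (by norm_num; omega) (by norm_num)
      · show BigP _ _ _ (9 * (2 * Nat.gcd 3 (p ^ f + 1) * f)) _
        rw [← mul_assoc]
        refine Cfsg.Agent.H363.DQ.bigP_TE6_18 hcf hp hf hF (hpk _ ?_ ?_ (by omega) (by omega)) <;>
          rcases hg with h | h <;> rw [h] <;> norm_num
    · refine ⟨0, by decide, hbt 0, (Cfsg.Agent.H396.CommTab.hasCG_twE6 hq hF p).par, by decide, 36 * f, hN, ?_,
        fun _ => ?_⟩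
      · show 12 * (2 * Nat.gcd 3 (p ^ f + 1) * f) < _
        rw [← mul_assoc]
        exact num_bound hp hf (by norm_num; omega) (by norm_num)
      · show BigP _ _ _ (12 * (2 * Nat.gcd 3 (p ^ f + 1) * f)) _
        rw [← mul_assoc]
        refine Cfsg.Agent.H363.DQ.bigP_TE6_12 hcf hp hf hF (hpk _ ?_ ?_ (by omega) (by omega)) <;>
          rcases hg with h | h <;> rw [h] <;> norm_num

end Cfsg.Agent.H311.DQ
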